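import Groth.Agent.H46.DimData
import Groth.Agent.Lib.Flat55.DimIneqFibre
import Groth.Agent.Lib.Flat55.DimSums
import Groth.Agent.Lib.JacCrit.SmoothLocal
import Groth.Agent.Lib.Cyc.TorPD
import Groth.Agent.Lib.FibreDim.Basic
import Mathlib.AlgebraicGeometry.Morphisms.UniversallyOpen
import Mathlib.AlgebraicGeometry.Morphisms.Flat

/-!
# Local dimensions along a flat morphism with locally constant fibre dimension
-/

set_option autoImplicit false

universe u

open CategoryTheory CategoryTheory.Limits AlgebraicGeometry Topology TopologicalSpace IsLocalRing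
open Groth.Agent.H46.DimData Groth.Agent.H46.FibreTrdeg Groth.Agent.Lib

namespace Groth.Agent.Lib.RelDimFormula.Basic

variable {X Y : Scheme.{u}}

/-- Local rings of an open subscheme bound its dimension from below. -/
theorem ringKrullDim_stalk_le_open (U : X.Opens) {x : X} (hx : x ∈ U) :
    ringKrullDim (X.presheaf.stalk x) ≤ topologicalKrullDim (U : Set X) := by
  have h := Cyc.TorPD.ringKrullDim_stalk_le (X := (U : Scheme.{u})) ⟨x, hx⟩
  rw [ringKrullDim_eq_of_ringEquiv (U.stalkIso ⟨x, hx⟩).commRingCatIsoToRingEquiv] at h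
  exact h

/-- A bound on all local rings at points of an open bounds its dimension. -/
theorem topologicalKrullDim_open_le (U : X.Opens) {n : WithBot ℕ∞}
    (h : ∀ x ∈ U, ringKrullDim (X.presheaf.stalk x) ≤ n) :
    topologicalKrullDim (U : Set X) ≤ n := by
  refine Flat55.DimIneqFibre.topologicalKrullDim_le_of_forall_stalk (X := (U : Scheme.{u})) n
    fun a => ?_
  rw [ringKrullDim_eq_of_ringEquiv (U.stalkIso a).commRingCatIsoToRingEquiv]
  exact h a.1 a.2

/-- The dimension formula at a point of a flat morphism. -/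
theorem sd_eq_add [IsLocallyNoetherian Y] (f : X ⟶ Y) [Flat f] [LocallyOfFiniteType f] (x : X) :
    sd x = sd (f x) + fd f x := by
  have := LocallyOfFiniteType.isLocallyNoetherian f
  rw [← formula_iff f x, H46.FiberStalk.ringKrullDim_stalk_fiber f x]
  exact JacCrit.SmoothLocal.ringKrullDim_eq_of_flat (f.stalkMap x).hom (Flat.stalkMap f x)

/-- Where the fibre dimension is constant `d`, the source has local dimension `d` more than
the target. -/
theorem localDim_eq_add [IsLocallyNoetherian Y] (f : X ⟶ Y) [Flat f] [LocallyOfFiniteType f]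
    (d : ℕ) (O : X.Opens) (hO : ∀ u ∈ O, FlatMor.fibreDimAt f u = (d : WithBot ℕ∞)) {x : X}
    (hx : x ∈ O) :
    FlatMor.localDim ↑X x = FlatMor.localDim ↑Y (f x) + (d : WithBot ℕ∞) := by
  have := LocallyOfFiniteType.isLocallyNoetherian f
  have : LocallyOfFinitePresentation f := inferInstance
  have hfe : ∀ u ∈ O, fd f u + trd f u = d := fun u hu => by
    rw [fd_add_trd]
    have := hO u hu
    rw [fibreDimAt_eq] at this
    exact_mod_cast this
  apply le_antisymm
  · obtain ⟨V, hyV, hV⟩ := FibreDim.Basic.exists_open_krullDim_eq (f x)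
    rw [← hV]
    refine iInf_le_of_le ⟨O ⊓ f ⁻¹ᵁ V, hx, hyV⟩ (topologicalKrullDim_open_le _ fun u hu => ?_)
    rw [H46.DimData.ringKrullDim_stalk, sd_eq_add f u]
    refine le_trans ?_ (add_le_add (ringKrullDim_stalk_le_open V hu.2) le_rfl)
    rw [H46.DimData.ringKrullDim_stalk, ← Nat.cast_add]
    have := hfe u hu.1
    exact_mod_cast (by omega : sd (f u) + fd f u ≤ sd (f u) + d)
  · obtain ⟨U, hxU, hU⟩ := FibreDim.Basic.exists_open_krullDim_eq x
    let W : X.Opens := U ⊓ O
    let V : Y.Opens := ⟨f '' W, f.isOpenMap _ W.2⟩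
    have hyV : f x ∈ V := ⟨x, ⟨hxU, hx⟩, rfl⟩
    rw [← hU]
    refine le_trans (add_le_add (iInf_le_of_le ⟨V, hyV⟩ le_rfl) le_rfl) ?_
    refine Flat55.DimSums.add_le_of_forall (fun v : V => sd v.1) (fun _ : PUnit.{1} => d) _ _ _
      (fun e => ⟨fun h v => ?_, fun h => ?_⟩) (fun e => ⟨fun h _ => h, fun h => h ⟨⟩⟩)
      (fun v _ => ?_)
    · rw [← H46.DimData.ringKrullDim_stalk]
      exact (ringKrullDim_stalk_le_open V v.2).trans h
    · refine topologicalKrullDim_open_le V fun v hv => ?_
      rw [H46.DimData.ringKrullDim_stalk]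
      exact h ⟨v, hv⟩
    · obtain ⟨w, hw, hwv⟩ := v.2
      obtain ⟨u, hu, htu⟩ := Flat55.DimSums.exists_trd_eq_zero (W.ι ≫ f) v.1 ⟨w, hw⟩ hwv
      rw [H46.FibreTrdeg.trd_comp] at htu
      have huW : W.ι u ∈ W := u.2
      have hfu : f (W.ι u) = v.1 := hu
      refine le_trans ?_ (ringKrullDim_stalk_le_open U huW.1)
      rw [H46.DimData.ringKrullDim_stalk, sd_eq_add f, hfu]
      have := hfe _ huW.2
      exact_mod_cast (by omega : sd v.1 + d ≤ sd v.1 + fd f (W.ι u))

end Groth.Agent.Lib.RelDimFormula.Basic
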